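import Cfsg.Agent.H16.PrimeHalf.Parity
import Cfsg.Agent.H16.PrimeHalf.Triples
import Cfsg.Agent.H61.Marggraff
import Cfsg.Agent.H58.DegreeSeven
import Cfsg.Agent.H65.PSLSmall

/-!
Non-solvable groups of degree eleven not containing the alternating group.
-/

set_option autoImplicit false
set_option linter.unusedSectionVars false
set_option maxRecDepth 4000
set_option linter.style.haveILetI false

namespace H16.PD

open MulAction H58

variable {α : Type*} [Fintype α] [DecidableEq α]

/-- A doubly transitive group with a non-trivial element moving at most four points, of degree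
above ten, contains the alternating group. -/
theorem alternating_le_of_support_four {G : Subgroup (Equiv.Perm α)}
    (h2 : IsMultiplyPretransitive G α 2) (hn : 11 ≤ Fintype.card α) {t : Equiv.Perm α}
    (ht : t ∈ G) (ht1 : t ≠ 1) (hs : t.support.card ≤ 4) : alternatingGroup α ≤ G := by
  classical
  obtain ⟨a, ha⟩ : t.support.Nonempty :=
    Finset.nonempty_iff_ne_empty.mpr (mt Equiv.Perm.support_eq_empty_iff.mp ht1)
  set X := t.support.erase a with hX
  have hXc : X.card ≤ 3 := by rw [hX, Finset.card_erase_of_mem ha]; omega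
  haveI : Fintype (stabilizer G a) := Fintype.ofFinite _
  have h2' : ∀ {u v w z : α}, u ≠ v → w ≠ z → ∃ g : G, g • u = w ∧ g • v = z :=
    MulAction.is_two_pretransitive_iff.mp h2
  set m := Fintype.card α - 1
  have horb : ∀ x, x ≠ a → orbit (stabilizer G a) x = ({a} : Set α)ᶜ := by
    intro x hxa
    ext z
    simp only [mem_orbit_iff, Set.mem_compl_iff, Set.mem_singleton_iff]
    constructor
    · rintro ⟨⟨k, hk⟩, rfl⟩ hz
      exact hxa (MulAction.injective k (hz.trans hk.symm))
    · intro hz
      obtain ⟨g, hga, hgx⟩ := h2' (Ne.symm hxa) (Ne.symm hz)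
      exact ⟨⟨g, hga⟩, hgx⟩
  -- every image meets the target equally often
  have hcount : ∀ x y, x ≠ a → y ≠ a →
      (Finset.univ.filter (fun g : stabilizer G a => g • x = y)).card * m =
        Fintype.card (stabilizer G a) := by
    intro x y hxa hya
    obtain ⟨g₀, hg₀⟩ : y ∈ orbit (stabilizer G a) x := by rw [horb x hxa]; simpa using hya
    have h1 := Subgroup.card_mul_index (stabilizer (stabilizer G a) x)
    rw [index_stabilizer, horb x hxa, Set.ncard_compl, Set.ncard_singleton,
      Nat.card_eq_fintype_card (α := α), Nat.card_eq_fintype_card (α := stabilizer G a)] at h1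
    rw [← h1]
    congr 1
    rw [← Fintype.card_subtype, ← Nat.card_eq_fintype_card]
    exact Nat.card_congr
      { toFun := fun g => ⟨g₀⁻¹ * g.1, by
          rw [mem_stabilizer_iff, mul_smul, g.2, inv_smul_eq_iff]; exact hg₀.symm⟩
        invFun := fun g => ⟨g₀ * g.1, by rw [mul_smul, mem_stabilizer_iff.mp g.2]; exact hg₀⟩
        left_inv := fun g => Subtype.ext (by simp)
        right_inv := fun g => Subtype.ext (by simp) }
  obtain ⟨g, hg⟩ : ∃ g : stabilizer G a, ∀ x ∈ X, g • x ∉ X := by
    by_contra hne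
    push Not at hne
    have hsum : Fintype.card (stabilizer G a) ≤
        ∑ q ∈ X ×ˢ X, (Finset.univ.filter (fun g : stabilizer G a => g • q.1 = q.2)).card := by
      rw [← Finset.card_univ]
      refine (Finset.card_le_card (t := (X ×ˢ X).biUnion
        (fun q => Finset.univ.filter (fun g : stabilizer G a => g • q.1 = q.2))) ?_).trans
        Finset.card_biUnion_le
      intro g _
      obtain ⟨x, hx, hgx⟩ := hne g
      exact Finset.mem_biUnion.mpr ⟨(x, g • x), Finset.mem_product.mpr ⟨hx, hgx⟩, by simp⟩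
    have hmul := Nat.mul_le_mul_right m hsum
    rw [Finset.sum_mul, Finset.sum_congr rfl (fun q hq => hcount q.1 q.2
      (Finset.mem_erase.mp (Finset.mem_product.mp hq).1).1
      (Finset.mem_erase.mp (Finset.mem_product.mp hq).2).1), Finset.sum_const, smul_eq_mul,
      Finset.card_product] at hmul
    have h9 : X.card * X.card ≤ 3 * 3 := Nat.mul_le_mul hXc hXc
    have hpos : 0 < Fintype.card (stabilizer G a) := Fintype.card_pos
    have := Nat.mul_le_mul_right (Fintype.card (stabilizer G a)) h9
    rw [mul_comm (Fintype.card (stabilizer G a)) m] at hmul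
    have h10 : 10 * Fintype.card (stabilizer G a) ≤ m * Fintype.card (stabilizer G a) :=
      Nat.mul_le_mul_right _ (by omega)
    simp only [hX] at *
    omega
  set s : G := (g : G) * ⟨t, ht⟩ * (g : G)⁻¹ with hs'
  have hga : (g : G) • a = a := g.2
  have hI : (t.support : Set α) ∩ ((fun x => (g : G) • x) '' (t.support : Set α)) = {a} := by
    ext z
    simp only [Set.mem_inter_iff, Finset.mem_coe, Set.mem_image, Set.mem_singleton_iff]
    constructor
    · rintro ⟨hz, x, hx, rfl⟩
      by_contra hne
      have hxa : x ≠ a := fun e => hne (by rw [e]; exact hga)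
      exact hg x (Finset.mem_erase.mpr ⟨hxa, hx⟩) (Finset.mem_erase.mpr ⟨hne, hz⟩)
    · rintro rfl
      exact ⟨ha, z, ha, hga⟩
  have hcyc := H61.commutator_isThreeCycle (G := G) (h := (⟨t, ht⟩ : G)) (h' := s) hI
    (fun z hz => Equiv.Perm.notMem_support.mp hz) (fun z hz => by
      rw [hs', mul_smul, mul_smul]
      have : (g : G)⁻¹ • z ∉ t.support := fun h => hz ⟨_, h, smul_inv_smul _ _⟩
      rw [show (⟨t, ht⟩ : G) • ((g : G)⁻¹ • z) = (g : G)⁻¹ • z from
        Equiv.Perm.notMem_support.mp this, smul_inv_smul])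
    (Equiv.Perm.mem_support.mp ha) (by
      rw [hs', mul_smul, mul_smul, inv_smul_eq_iff.mpr hga.symm]
      intro h
      exact Equiv.Perm.mem_support.mp ha (MulAction.injective (g : G) (h.trans hga.symm)))
  refine Equiv.Perm.alternatingGroup_le_of_isPreprimitive_of_isThreeCycle_mem
    (MulAction.isPreprimitive_of_is_two_pretransitive h2) hcyc ?_
  exact ((⟨t, ht⟩ : G) * s * (⟨t, ht⟩ : G)⁻¹ * s⁻¹).2

theorem sign_subLeft_eleven : ∀ b : ZMod 11, Equiv.Perm.sign (Equiv.subLeft b) = -1 := by
  decide +kernel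

variable {G : Subgroup (Equiv.Perm α)}

/-- What an element fixing three points may look like. -/
structure Clean (G : Subgroup (Equiv.Perm α)) : Prop where
  prime_support : ∀ g ∈ G, ∀ q, q.Prime → 5 ≤ q → orderOf g = q → q + 3 ≤ 11 →
    g.support.card ≠ q
  four : ∀ g ∈ G, g ≠ 1 → 5 ≤ g.support.card

theorem clean_of_not_alternating (hα : Fintype.card α = 11)
    (h2 : IsMultiplyPretransitive G α 2) (hA : ¬ alternatingGroup α ≤ G) : Clean G := by
  refine ⟨fun g hg q hq h5 hord hq11 hs => ?_, fun g hg h1 => ?_⟩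
  · have hcyc : g.IsCycle := Equiv.Perm.isCycle_of_prime_order (hord ▸ hq) (by
      rw [hord, hs]; omega)
    exact hA (alternating_le_of_prime_cycle G (MulAction.isPreprimitive_of_is_two_pretransitive h2)
      hq (by omega) hcyc hs hg)
  · by_contra hs
    exact hA (alternating_le_of_support_four h2 (by omega) hg h1 (by omega))

theorem support_dvd {g : Equiv.Perm α} {q : ℕ} (hq : q.Prime) (hord : orderOf g = q) :
    q ∣ g.support.card ∧ 0 < g.support.card := by
  obtain ⟨n, hn⟩ := Equiv.Perm.cycleType_prime_order (σ := g) (hord ▸ hq)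
  rw [← Equiv.Perm.sum_cycleType, hn, hord, Multiset.sum_replicate, smul_eq_mul]
  exact ⟨dvd_mul_left q _, Nat.mul_pos (Nat.succ_pos _) hq.pos⟩

theorem support_of_fix {g : Equiv.Perm α} (S : Finset α) (hS : ∀ x ∈ S, g x = x) :
    g.support.card + S.card ≤ Fintype.card α := by
  rw [← Finset.card_union_of_disjoint, ← Finset.card_univ]
  · exact Finset.card_le_card (Finset.subset_univ _)
  · rw [Finset.disjoint_left]
    exact fun x hx hxS => Equiv.Perm.mem_support.mp hx (hS x hxS)

/-- Orders of subgroups fixing three points. -/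
theorem fix_three_dvd (hα : Fintype.card α = 11) (hc : Clean G)
    (heven : ∀ g ∈ G, Equiv.Perm.sign g = 1) (X : Subgroup G) (S : Finset α) (hS : 3 ≤ S.card)
    (hX : ∀ g ∈ X, ∀ x ∈ S, (g : Equiv.Perm α) x = x) :
    Nat.card X ∣ 24 ∧ (∀ x, x ∉ S → ∀ g ∈ X, ∀ k, (g : Equiv.Perm α) x = x →
      g ^ (2 ^ k) = (1 : G) → g = 1) := by
  classical
  have key : ∀ g ∈ X, orderOf ((g : G) : Equiv.Perm α) = 2 → (g : Equiv.Perm α).support.card = 8 ∧
      S.card = 3 := by
    intro g hg hord
    obtain ⟨hd, -⟩ := support_dvd Nat.prime_two hord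
    have hle := support_of_fix S (hX g hg)
    have h5 := hc.four _ g.2 (fun e => by rw [e, orderOf_one] at hord; omega)
    -- parity: an even number of transpositions
    obtain ⟨n, hn⟩ := Equiv.Perm.cycleType_prime_order (σ := (g : Equiv.Perm α))
      (by rw [hord]; norm_num)
    have hsgn := heven _ g.2
    rw [Equiv.Perm.sign_of_cycleType, hn, hord, Multiset.sum_replicate, Multiset.card_replicate,
      smul_eq_mul] at hsgn
    have hsum : (g : Equiv.Perm α).support.card = (n + 1) * 2 := by
      rw [← Equiv.Perm.sum_cycleType, hn, hord, Multiset.sum_replicate, smul_eq_mul]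
    rw [hsum] at hle h5 ⊢
    have hn4 : n = 2 ∨ n = 3 := by omega
    rcases hn4 with rfl | rfl
    · exact absurd hsgn (by decide)
    · omega
  have hfree : ∀ x, x ∉ S → ∀ g ∈ X, ∀ k, (g : Equiv.Perm α) x = x →
      g ^ (2 ^ k) = (1 : G) → g = 1 := by
    intro x hx g hg k hgx hk
    by_contra h1
    have hord : orderOf g ∣ 2 ^ k := orderOf_dvd_of_pow_eq_one hk
    obtain ⟨i, -, hi⟩ := (Nat.dvd_prime_pow Nat.prime_two).mp hord
    have hi0 : i ≠ 0 := fun e => h1 (orderOf_eq_one_iff.mp (by rw [hi, e, pow_zero]))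
    set t := g ^ 2 ^ (i - 1)
    have ht : orderOf t = 2 := by
      rw [orderOf_pow' g (pow_ne_zero _ two_ne_zero), hi,
        Nat.gcd_eq_right (pow_dvd_pow 2 (by omega)), Nat.pow_div (by omega) two_pos,
        show i - (i - 1) = 1 by omega, pow_one]
    have ht' : orderOf ((t : G) : Equiv.Perm α) = 2 := by rw [Subgroup.orderOf_coe]; exact ht
    obtain ⟨h8, hS3⟩ := key t (X.pow_mem hg _) ht'
    have := support_of_fix (g := ((t : G) : Equiv.Perm α)) (insert x S) (fun z hz => by
      rcases Finset.mem_insert.mp hz with rfl | hz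
      · rw [SubmonoidClass.coe_pow]; exact Equiv.Perm.pow_apply_eq_self_of_apply_eq_self hgx _
      · exact hX t (X.pow_mem hg _) z hz)
    rw [Finset.card_insert_of_notMem hx, h8, hS3, hα] at this
    omega
  refine ⟨?_, hfree⟩
  rw [show (24 : ℕ) = 2 ^ 3 * 3 ^ 1 by norm_num, Nat.dvd_iff_prime_pow_dvd_dvd]
  intro q e hq hqe
  rcases Nat.eq_zero_or_pos e with rfl | he
  · simp
  haveI := Fact.mk hq
  obtain ⟨T, hT⟩ := Sylow.exists_subgroup_card_pow_prime q hqe
  have hTne : ∀ g : T, g ≠ 1 → ((g : X) : G) ≠ 1 := fun g h e' => h (Subtype.ext (Subtype.ext e'))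
  -- an element of order `q`
  obtain ⟨g, hg⟩ := exists_prime_orderOf_dvd_card' q ((dvd_pow_self q (by omega)).trans (dvd_of_eq hT.symm))
  have hgo : orderOf (((g : X) : G) : Equiv.Perm α) = q := by
    rw [Subgroup.orderOf_coe, Subgroup.orderOf_coe, Subgroup.orderOf_coe]; exact hg
  have hle := support_of_fix S (hX _ (g : X).2)
  obtain ⟨hd, hpos⟩ := support_dvd hq hgo
  have hq23 : q = 2 ∨ q = 3 := by
    by_contra hne
    push Not at hne
    have h5 : 5 ≤ q := by
      have := hq.two_le
      by_contra h4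
      interval_cases q <;> simp_all (config := { decide := true })
    obtain ⟨c, hc'⟩ := hd
    have hq8 : q ≤ 8 := le_trans (Nat.le_of_dvd hpos ⟨c, hc'⟩) (by omega)
    have hc1 : c = 1 := by
      rcases c with _ | _ | c
      · omega
      · rfl
      · have : q * 2 ≤ q * (c + 1 + 1) := Nat.mul_le_mul_left q (by omega)
        omega
    exact hc.prime_support _ ((g : X) : G).2 q hq h5 hgo (by omega) (by rw [hc', hc1, mul_one])
  -- `T` acts semiregularly on an orbit away from `S`
  obtain ⟨x, hx, hfix⟩ : ∃ x, x ∉ S ∧ ∀ g : T, (((g : X) : G) : Equiv.Perm α) x = x → g = 1 := by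
    rcases hq23 with rfl | rfl
    · obtain ⟨x, hx⟩ : (((g : X) : G) : Equiv.Perm α).support.Nonempty := Finset.card_pos.mp hpos
      have hxS : x ∉ S := fun hxS => Equiv.Perm.mem_support.mp hx (hX _ (g : X).2 x hxS)
      refine ⟨x, hxS, fun g hgx => ?_⟩
      have hk : g ^ 2 ^ e = 1 := by rw [← hT]; exact pow_card_eq_one'
      exact Subtype.ext (Subtype.ext (hfree x hxS _ (g : X).2 e hgx (by
        have := congrArg (fun z : T => ((z : X) : G)) hk
        simpa using this)))
    · obtain ⟨x, hx⟩ : (((g : X) : G) : Equiv.Perm α).support.Nonempty := Finset.card_pos.mp hpos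
      refine ⟨x, fun hxS => Equiv.Perm.mem_support.mp hx (hX _ (g : X).2 x hxS), fun k hkx => ?_⟩
      by_contra h1
      -- the orbit of `x` has three points, all fixed by `k`
      have hTp : IsPGroup 3 T := IsPGroup.of_card hT
      obtain ⟨j, hj⟩ := hTp.card_orbit (x : α)
      have hsub : orbit T x ⊆ ↑(Sᶜ : Finset α) := by
        rintro _ ⟨u, rfl⟩
        rw [Finset.mem_coe, Finset.mem_compl]
        intro hu
        have hfx := hX _ ((u : X)).2 _ hu
        exact Equiv.Perm.mem_support.mp hx (hX _ (g : X).2 x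
          (((((u : X) : G) : Equiv.Perm α).injective hfx) ▸ hu))
      have hoc : (orbit T x).ncard ≤ 8 := by
        refine (Set.ncard_le_ncard hsub).trans ?_
        rw [Set.ncard_coe_finset, Finset.card_compl, hα]; omega
      rw [Nat.card_coe_set_eq] at hj
      have hidx := index_stabilizer (G := T) (x := (x : α))
      have hj1 : j = 1 := by
        rcases j with _ | _ | j
        · exfalso
          rw [pow_zero, Set.ncard_eq_one] at hj
          obtain ⟨y, hy⟩ := hj
          have h1' : g • x ∈ orbit T x := mem_orbit x g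
          have h2' := mem_orbit_self (M := T) x
          rw [hy, Set.mem_singleton_iff] at h1' h2'
          exact Equiv.Perm.mem_support.mp hx (h1'.trans h2'.symm)
        · rfl
        · exfalso
          have : 3 ^ 2 ≤ 3 ^ (j + 1 + 1) := Nat.pow_le_pow_right (by norm_num) (by omega)
          omega
      subst hj1
      haveI : (stabilizer T x).Normal := by
        apply Subgroup.normal_of_index_eq_minFac_card
        rw [hidx, hj, hT, Nat.pow_minFac (by omega), Nat.prime_three.minFac_eq, pow_one]
      have hall : ∀ y ∈ orbit T x, (((k : X) : G) : Equiv.Perm α) y = y := by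
        rintro _ ⟨u, rfl⟩
        have h2 := Subgroup.Normal.conj_mem ‹(stabilizer T x).Normal› k hkx u⁻¹
        rw [inv_inv] at h2
        have h3 : u⁻¹ • k • u • x = x := by
          rw [← mul_smul, ← mul_smul]; rw [mem_stabilizer_iff] at h2; simpa [mul_assoc] using h2
        exact inv_smul_eq_iff.mp h3
      have hle' := support_of_fix (g := (((k : X) : G) : Equiv.Perm α))
        (S ∪ (Set.toFinite (orbit T x)).toFinset) (fun z hz => by
          rcases Finset.mem_union.mp hz with hz | hz
          · exact hX _ (k : X).2 z hz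
          · exact hall z ((Set.Finite.mem_toFinset _).mp hz))
      have hdisj : Disjoint S (Set.toFinite (orbit T x)).toFinset := by
        rw [Finset.disjoint_left]
        intro z hz hz'
        exact (Finset.mem_compl.mp (hsub ((Set.Finite.mem_toFinset _).mp hz'))) hz
      rw [Finset.card_union_of_disjoint hdisj, ← Set.ncard_eq_toFinset_card _ , hj, pow_one,
        hα] at hle'
      have h5 := hc.four _ ((k : X) : G).2 (fun e' => hTne k h1 (Subtype.ext e'))
      have hko : orderOf k ∣ 3 ^ e := hT ▸ orderOf_dvd_natCard k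
      obtain ⟨i, -, hi⟩ := (Nat.dvd_prime_pow Nat.prime_three).mp hko
      have hi0 : i ≠ 0 := fun e' => h1 (orderOf_eq_one_iff.mp (by rw [hi, e', pow_zero]))
      set w := k ^ 3 ^ (i - 1)
      have hw : orderOf (((w : X) : G) : Equiv.Perm α) = 3 := by
        rw [Subgroup.orderOf_coe, Subgroup.orderOf_coe, Subgroup.orderOf_coe,
          orderOf_pow' k (pow_ne_zero _ (by norm_num)), hi,
          Nat.gcd_eq_right (pow_dvd_pow 3 (by omega)), Nat.pow_div (by omega) (by norm_num),
          show i - (i - 1) = 1 by omega, pow_one]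
      obtain ⟨hdw, hposw⟩ := support_dvd Nat.prime_three hw
      have h5w := hc.four _ ((w : X) : G).2 (fun e' => by rw [e', orderOf_one] at hw; omega)
      have hsubw : (((w : X) : G) : Equiv.Perm α).support ⊆
          (((k : X) : G) : Equiv.Perm α).support := by
        simp only [w, SubmonoidClass.coe_pow]
        exact Equiv.Perm.support_pow_le _ _
      have := Finset.card_le_card hsubw
      obtain ⟨c, hc'⟩ := hdw
      omega
  have horb : Nat.card T ≤ 11 - S.card := by
    have h : Function.Injective fun g : T => (⟨(((g : X) : G) : Equiv.Perm α) x, by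
        intro hS'
        have := hX _ (g : X).2 _ hS'
        exact hx (((((g : X) : G) : Equiv.Perm α).injective this) ▸ hS')⟩ : {z // z ∉ S}) := by
      intro u v huv
      have huv' := congrArg Subtype.val huv
      refine (inv_mul_eq_one.mp (hfix (u⁻¹ * v) ?_))
      change (((u : X) : G) : Equiv.Perm α)⁻¹ ((((v : X) : G) : Equiv.Perm α) x) = x
      exact Equiv.Perm.inv_eq_iff_eq.mpr huv'.symm
    refine (Nat.card_le_card_of_injective _ h).trans (le_of_eq ?_)
    rw [Nat.card_eq_fintype_card, Fintype.card_subtype_compl, Fintype.card_coe, hα]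
  rw [hT] at horb
  rcases hq23 with rfl | rfl
  · have he3 : e ≤ 3 := by
      by_contra h
      have := Nat.pow_le_pow_right (show 0 < 2 by norm_num) (show 4 ≤ e by omega)
      omega
    exact (pow_dvd_pow 2 he3).trans (dvd_mul_right _ _)
  · have he1 : e ≤ 1 := by
      by_contra h
      have := Nat.pow_le_pow_right (show 0 < 3 by norm_num) (show 2 ≤ e by omega)
      omega
    exact (pow_dvd_pow 3 he1).trans (dvd_mul_left _ _)

theorem card_stab_two (h2 : IsMultiplyPretransitive G α 2) {a b : α} (hab : a ≠ b) :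
    Nat.card G = Fintype.card α * (Fintype.card α - 1) *
      Nat.card ↥(stabilizer G a ⊓ stabilizer G b) := by
  haveI : IsPretransitive G α := MulAction.isPretransitive_of_is_two_pretransitive (h2 := h2)
  have h1 := Subgroup.card_mul_index (stabilizer G a)
  rw [index_stabilizer_of_transitive G a, Nat.card_eq_fintype_card (α := α)] at h1
  have h2' := Subgroup.card_mul_index (stabilizer (stabilizer G a) b)
  have horb : orbit (stabilizer G a) b = ({a} : Set α)ᶜ := by
    ext z
    simp only [mem_orbit_iff, Set.mem_compl_iff, Set.mem_singleton_iff]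
    constructor
    · rintro ⟨⟨k, hk⟩, rfl⟩ hz
      exact hab (MulAction.injective k (hk.trans hz.symm))
    · intro hz
      obtain ⟨g, hga, hgb⟩ := MulAction.is_two_pretransitive_iff.mp h2 hab (Ne.symm hz)
      exact ⟨⟨g, hga⟩, hgb⟩
  rw [index_stabilizer, horb, Set.ncard_compl, Set.ncard_singleton,
    Nat.card_eq_fintype_card (α := α)] at h2'
  rw [← h1, ← h2', show Nat.card (stabilizer (stabilizer G a) b) =
    Nat.card ↥(stabilizer G a ⊓ stabilizer G b) from Nat.card_congr
      { toFun := fun k => ⟨k.1.1, Subgroup.mem_inf.mpr ⟨k.1.2, k.2⟩⟩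
        invFun := fun k => ⟨⟨k.1, (Subgroup.mem_inf.mp k.2).1⟩, (Subgroup.mem_inf.mp k.2).2⟩
        left_inv := fun k => rfl
        right_inv := fun k => rfl }]
  ring

set_option maxHeartbeats 2000000 in
/-- The even case. -/
theorem even_case [Fact (Nat.Prime 11)] (h : Half 11 G) (hA : ¬ alternatingGroup α ≤ G) :
    (IsMultiplyPretransitive G α 4 ∧ ∀ x : Fin 4 ↪ α, stabilizer G x = ⊥) ∨
      (Nat.card G = 660 ∧ ¬ IsMultiplyPretransitive G α 3) := by
  classical
  haveI := h.trans
  have hα := h.card
  have hc := clean_of_not_alternating hα h.two hA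
  have heven := h.sign_eq_one
  obtain ⟨a, b, hab⟩ := Fintype.exists_pair_of_one_lt_card (α := α) (by omega)
  set X2 := stabilizer G a ⊓ stabilizer G b with hX2
  have hG : Nat.card G = 110 * Nat.card X2 := by rw [card_stab_two h.two hab, hα]
  -- Sylow's congruence
  have hmod : 2 * Nat.card X2 % 11 = 1 := by
    obtain ⟨P⟩ : Nonempty (Sylow 11 G) := inferInstance
    have hn := Subgroup.card_mul_index (Subgroup.normalizer ((P : Subgroup G) : Set G))
    have h1 := card_sylow_modEq_one 11 G
    rw [P.card_eq_index_normalizer] at h1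
    have hN := h.norm P
    have h55 : Nat.card (Subgroup.normalizer ((P : Subgroup G) : Set G)) = 55 := by omega
    rw [h55, hG] at hn
    have hn' : (Subgroup.normalizer ((P : Subgroup G) : Set G)).index = 2 * Nat.card X2 := by omega
    exact (congrArg (· % 11) hn'.symm).trans h1
  have hsplit : ∀ c, c ≠ a → c ≠ b →
      orbLen G a b c * Nat.card ↥(stabilizer G a ⊓ stabilizer G b ⊓ stabilizer G c) = Nat.card X2 :=
    fun c _ _ => orbLen_mul a b c
  have h24 : ∀ c, c ≠ a → c ≠ b → Nat.card ↥(stabilizer G a ⊓ stabilizer G b ⊓ stabilizer G c) ∣ 24 ∧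
      (∀ x, x ≠ a → x ≠ b → x ≠ c → ∀ g ∈ stabilizer G a ⊓ stabilizer G b ⊓ stabilizer G c, ∀ k,
        (g : Equiv.Perm α) x = x → g ^ (2 ^ k) = (1 : G) → g = 1) := by
    intro c hca hcb
    have hS : ({a, b, c} : Finset α).card = 3 :=
      Finset.card_eq_three.mpr ⟨_, _, _, hab, hca.symm, hcb.symm, rfl⟩
    obtain ⟨h1, h2⟩ := fix_three_dvd hα hc heven (stabilizer G a ⊓ stabilizer G b ⊓ stabilizer G c)
      {a, b, c} hS.ge (fun g hg x hx => by
        obtain ⟨⟨ga, gb⟩, gc⟩ : (g • a = a ∧ g • b = b) ∧ g • c = c := hg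
        simp only [Finset.mem_insert, Finset.mem_singleton] at hx
        rcases hx with rfl | rfl | rfl <;> assumption)
    exact ⟨h1, fun x hxa hxb hxc => h2 x (by simp [hxa, hxb, hxc])⟩
  by_cases h3 : IsMultiplyPretransitive G α 3
  · left
    have h3map : ∀ u v : Fin 3 ↪ α, ∃ g : G, g • u = v := h3.exists_smul_eq
    have h9 : ∀ c, c ≠ a → c ≠ b → orbLen G a b c = 9 := by
      intro c hca hcb
      rw [orbLen, Nat.card_coe_set_eq]
      have : orbit ↥X2 c = ↑(({a, b} : Finset α)ᶜ) := by
        ext z
        simp only [Finset.coe_compl, Finset.coe_insert, Finset.coe_singleton, Set.mem_compl_iff,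
          Set.mem_insert_iff, Set.mem_singleton_iff, not_or]
        constructor
        · exact notMem_of_fixed hca hcb z
        · rintro ⟨hza, hzb⟩
          obtain ⟨g, hg⟩ := h3map
            ⟨![a, b, c], by intro i j; fin_cases i <;> fin_cases j <;>
              simp [hab, hab.symm, hca, hcb, hca.symm, hcb.symm]⟩
            ⟨![a, b, z], by intro i j; fin_cases i <;> fin_cases j <;>
              simp [hab, hab.symm, hza, hzb, Ne.symm hza, Ne.symm hzb]⟩
          exact ⟨⟨g, Subgroup.mem_inf.mpr ⟨DFunLike.congr_fun hg 0, DFunLike.congr_fun hg 1⟩⟩,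
            DFunLike.congr_fun hg 2⟩
      rw [this, Set.ncard_coe_finset, Finset.card_compl, Finset.card_pair hab, hα]
    have h8 : ∀ c, c ≠ a → c ≠ b →
        Nat.card ↥(stabilizer G a ⊓ stabilizer G b ⊓ stabilizer G c) = 8 := by
      intro c hca hcb
      have h1 := (h24 c hca hcb).1
      have h2 := hsplit c hca hcb
      rw [h9 c hca hcb] at h2
      rw [← h2] at hmod
      have hle := Nat.le_of_dvd (by norm_num) h1
      revert hmod h1
      generalize Nat.card ↥(stabilizer G a ⊓ stabilizer G b ⊓ stabilizer G c) = x at hle ⊢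
      revert x
      decide
    -- the stabiliser of three points is regular on the other eight
    have hreg : ∀ c x, c ≠ a → c ≠ b → x ≠ a → x ≠ b → x ≠ c →
        ∀ g ∈ stabilizer G a ⊓ stabilizer G b ⊓ stabilizer G c, g • x = x → g = 1 := by
      intro c x hca hcb hxa hxb hxc g hg hgx
      refine (h24 c hca hcb).2 x hxa hxb hxc g hg 3 hgx ?_
      have h1 : (⟨g, hg⟩ : ↥(stabilizer G a ⊓ stabilizer G b ⊓ stabilizer G c)) ^
          Nat.card ↥(stabilizer G a ⊓ stabilizer G b ⊓ stabilizer G c) = 1 := pow_card_eq_one'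
      rw [h8 c hca hcb] at h1
      exact congrArg Subtype.val h1
    have htrans : ∀ c x y, c ≠ a → c ≠ b → x ≠ a → x ≠ b → x ≠ c → y ≠ a → y ≠ b → y ≠ c →
        ∃ g : G, g • a = a ∧ g • b = b ∧ g • c = c ∧ g • x = y := by
      intro c x y hca hcb hxa hxb hxc hya hyb hyc
      set X3 := stabilizer G a ⊓ stabilizer G b ⊓ stabilizer G c
      let R : Finset α := ({a, b, c} : Finset α)ᶜ
      let f : X3 → R := fun g => ⟨(g : G) • x, by
        obtain ⟨⟨ga, gb⟩, gc⟩ : ((g : G) • a = a ∧ (g : G) • b = b) ∧ (g : G) • c = c := g.2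
        simp only [R, Finset.mem_compl, Finset.mem_insert, Finset.mem_singleton, not_or]
        exact ⟨fun e => hxa (MulAction.injective (g : G) (e.trans ga.symm)),
          fun e => hxb (MulAction.injective (g : G) (e.trans gb.symm)),
          fun e => hxc (MulAction.injective (g : G) (e.trans gc.symm))⟩⟩
      have hf : Function.Injective f := by
        intro g g' e
        have h1 := hreg c x hca hcb hxa hxb hxc ((g' : G)⁻¹ * g) (X3.mul_mem (X3.inv_mem g'.2) g.2)
          (by rw [mul_smul, show (g : G) • x = (g' : G) • x from congrArg Subtype.val e, inv_smul_smul])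
        exact Subtype.ext (inv_mul_eq_one.mp h1).symm
      have hb : Function.Bijective f := (Nat.bijective_iff_injective_and_card f).mpr ⟨hf, by
        rw [h8 c hca hcb, Nat.card_eq_fintype_card, Fintype.card_coe, Finset.card_compl,
          Finset.card_eq_three.mpr ⟨_, _, _, hab, hca.symm, hcb.symm, rfl⟩, hα]⟩
      obtain ⟨⟨g, hg⟩, hgy⟩ := hb.2 ⟨y, by simp [R, hya, hyb, hyc]⟩
      obtain ⟨⟨ga, gb⟩, gc⟩ : (g • a = a ∧ g • b = b) ∧ g • c = c := hg
      exact ⟨g, ga, gb, gc, congrArg Subtype.val hgy⟩
    obtain ⟨c, -, hc'⟩ := Finset.exists_mem_notMem_of_card_lt_card (s := ({a, b} : Finset α))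
      (t := Finset.univ) (by rw [Finset.card_univ, Finset.card_pair hab, hα]; norm_num)
    simp only [Finset.mem_insert, Finset.mem_singleton, not_or] at hc'
    obtain ⟨hca, hcb⟩ : c ≠ a ∧ c ≠ b := hc'
    have hnorm : ∀ u : Fin 4 ↪ α, ∃ g : G, g • u 0 = a ∧ g • u 1 = b ∧ g • u 2 = c := by
      intro u
      obtain ⟨g, hg⟩ := h3map ⟨![u 0, u 1, u 2], fun i j e => by
          fin_cases i <;> fin_cases j <;> simp_all [u.injective.eq_iff]⟩
        ⟨![a, b, c], by intro i j; fin_cases i <;> fin_cases j <;>
          simp [hab, hab.symm, hca, hcb, hca.symm, hcb.symm]⟩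
      exact ⟨g, DFunLike.congr_fun hg 0, DFunLike.congr_fun hg 1, DFunLike.congr_fun hg 2⟩
    have hlast : ∀ (u : Fin 4 ↪ α) (g : G), g • u 0 = a → g • u 1 = b → g • u 2 = c →
        g • u 3 ≠ a ∧ g • u 3 ≠ b ∧ g • u 3 ≠ c := fun u g g0 g1 g2 =>
      ⟨fun e => u.injective.ne (show (3 : Fin 4) ≠ 0 by decide) (MulAction.injective g (e.trans g0.symm)),
       fun e => u.injective.ne (show (3 : Fin 4) ≠ 1 by decide) (MulAction.injective g (e.trans g1.symm)),
       fun e => u.injective.ne (show (3 : Fin 4) ≠ 2 by decide) (MulAction.injective g (e.trans g2.symm))⟩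
    refine ⟨⟨fun u v => ?_⟩, fun u => ?_⟩
    · obtain ⟨g, g0, g1, g2⟩ := hnorm u
      obtain ⟨g', g0', g1', g2'⟩ := hnorm v
      obtain ⟨n1, n2, n3⟩ := hlast u g g0 g1 g2
      obtain ⟨m1, m2, m3⟩ := hlast v g' g0' g1' g2'
      obtain ⟨k, ka, kb, kc, kx⟩ := htrans c _ _ hca hcb n1 n2 n3 m1 m2 m3
      refine ⟨g'⁻¹ * k * g, Function.Embedding.ext fun i => ?_⟩
      change (g'⁻¹ * k * g) • u i = v i
      rw [mul_smul, mul_smul, inv_smul_eq_iff]
      fin_cases i
      · exact (congrArg (k • ·) g0).trans (ka.trans g0'.symm)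
      · exact (congrArg (k • ·) g1).trans (kb.trans g1'.symm)
      · exact (congrArg (k • ·) g2).trans (kc.trans g2'.symm)
      · exact kx
    · rw [Subgroup.eq_bot_iff_forall]
      intro k hk
      obtain ⟨g, g0, g1, g2⟩ := hnorm u
      obtain ⟨n1, n2, n3⟩ := hlast u g g0 g1 g2
      have hki : ∀ i, k • u i = u i := fun i => DFunLike.congr_fun hk i
      have key : ∀ i, (g * k * g⁻¹) • g • u i = g • u i := fun i => by
        rw [mul_smul, mul_smul, inv_smul_smul, hki]
      have h1 := hreg c (g • u 3) hca hcb n1 n2 n3 (g * k * g⁻¹)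
        (Subgroup.mem_inf.mpr ⟨Subgroup.mem_inf.mpr ⟨g0 ▸ key 0, g1 ▸ key 1⟩, g2 ▸ key 2⟩) (key 3)
      exact conj_eq_one_iff.mp h1
  · right
    refine ⟨?_, h3⟩
    have hfour := h.three_or_four.resolve_left h3 a b hab
    obtain ⟨c, -, hc'⟩ := Finset.exists_mem_notMem_of_card_lt_card (s := ({a, b} : Finset α))
      (t := Finset.univ) (by rw [Finset.card_univ, Finset.card_pair hab, hα]; norm_num)
    simp only [Finset.mem_insert, Finset.mem_singleton, not_or] at hc'
    obtain ⟨hca, hcb⟩ : c ≠ a ∧ c ≠ b := hc'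
    obtain ⟨d, hda, hdb, hdc⟩ : ∃ d, d ≠ a ∧ d ≠ b ∧
        d ∉ orbit ↥(stabilizer G a ⊓ stabilizer G b) c := by
      by_contra hne
      push Not at hne
      refine h3 (three_pretransitive_of_pairOrbits G h.two hab ?_)
      haveI : Fintype (pairOrbits G a b) := Fintype.ofFinite _
      rw [Nat.card_eq_fintype_card, ← Finset.card_univ]
      refine le_trans (Finset.card_le_card (t := ({Quotient.mk'' a, Quotient.mk'' b,
        Quotient.mk'' c} : Finset (pairOrbits G a b))) ?_) Finset.card_le_three
      intro q _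
      obtain ⟨z, rfl⟩ := Quotient.mk''_surjective q
      simp only [Finset.mem_insert, Finset.mem_singleton]
      by_cases hza : z = a
      · exact Or.inl (by rw [hza])
      by_cases hzb : z = b
      · exact Or.inr (Or.inl (by rw [hzb]))
      exact Or.inr (Or.inr (Quotient.sound (hne z hza hzb)))
    have hsum := orbit_ncard_add hab hfour hca hcb hda hdb hdc
    rw [hα] at hsum
    wlog hkl : orbLen G a b c ≤ orbLen G a b d generalizing c d with H
    · exact H d hda hdb c hca hcb (fun e => hdc (orbit_eq_iff.mpr e ▸ mem_orbit_self d))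
        (by omega) (le_of_not_ge hkl)
    have h1 := (h24 c hca hcb).1
    have h1d := (h24 d hda hdb).1
    have h2 := hsplit c hca hcb
    have h2d := hsplit d hda hdb
    have hk1 : 1 ≤ orbLen G a b c := by
      haveI := (nonempty_orbit (M := ↥(stabilizer G a ⊓ stabilizer G b)) c).to_subtype
      rw [orbLen]; exact Nat.card_pos
    -- in the case `3 + 6` the stabiliser of three points has a small Sylow 2-subgroup
    have h36 : orbLen G a b c = 3 →
        ¬ 4 ∣ Nat.card ↥(stabilizer G a ⊓ stabilizer G b ⊓ stabilizer G c) := by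
      intro h3c h4
      set X3 := stabilizer G a ⊓ stabilizer G b ⊓ stabilizer G c
      haveI : Fact (Nat.Prime 2) := ⟨Nat.prime_two⟩
      obtain ⟨T, hT⟩ := Sylow.exists_subgroup_card_pow_prime (G := X3) 2 (n := 2) h4
      set O : Finset α := (Set.toFinite (orbit ↥(stabilizer G a ⊓ stabilizer G b) c)).toFinset.erase c
      have hOc : O.card = 2 := by
        rw [Finset.card_erase_of_mem ((Set.Finite.mem_toFinset _).mpr (mem_orbit_self c)),
          ← Set.ncard_eq_toFinset_card, ← Nat.card_coe_set_eq]
        change orbLen G a b c - 1 = 2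
        omega
      obtain ⟨x, y, hxy, hO⟩ := Finset.card_eq_two.mp hOc
      have hxO : x ∈ O := by rw [hO]; simp
      have hx' := Finset.mem_erase.mp hxO
      obtain ⟨hxa', hxb'⟩ := notMem_of_fixed hca hcb x ((Set.Finite.mem_toFinset _).mp hx'.2)
      have hmem : ∀ g : T, ((g : X3) : G) • x ∈ O := by
        intro g
        have hg : ((g : X3) : G) ∈ X3 := (g : X3).2
        refine Finset.mem_erase.mpr ⟨fun e => hx'.1 (MulAction.injective ((g : X3) : G)
          (e.trans (Subgroup.mem_inf.mp hg).2.symm)), (Set.Finite.mem_toFinset _).mpr ?_⟩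
        obtain ⟨k, hk⟩ := (Set.Finite.mem_toFinset _).mp hx'.2
        refine ⟨⟨((g : X3) : G), (Subgroup.mem_inf.mp hg).1⟩ * k, ?_⟩
        simp only at hk ⊢
        rw [mul_smul, hk]; rfl
      have hinj : Function.Injective (fun g : T => (⟨((g : X3) : G) • x, hmem g⟩ : O)) := by
        intro u v e
        refine inv_mul_eq_one.mp (Subtype.ext (Subtype.ext ?_))
        refine (h24 c hca hcb).2 x hxa' hxb' hx'.1 _ ((u⁻¹ * v : T) : X3).2 2 ?_ ?_
        · change ((((u⁻¹ * v : T) : X3) : G)) • x = x
          rw [Subgroup.coe_mul, Subgroup.coe_mul, Subgroup.coe_inv, Subgroup.coe_inv, mul_smul,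
            inv_smul_eq_iff]
          exact (congrArg Subtype.val e).symm
        · have hp : (u⁻¹ * v) ^ 2 ^ 2 = 1 := by rw [← hT]; exact pow_card_eq_one'
          have := congrArg (fun z : T => ((z : X3) : G)) hp
          simpa using this
      have := Nat.card_le_card_of_injective _ hinj
      rw [Nat.card_eq_fintype_card (α := O), Fintype.card_coe, hOc, hT] at this
      norm_num at this
    rw [hG]
    revert h1 h1d h2 h2d hmod hsum hk1 hkl h36
    generalize orbLen G a b c = k
    generalize orbLen G a b d = l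
    generalize Nat.card ↥(stabilizer G a ⊓ stabilizer G b ⊓ stabilizer G c) = x
    generalize Nat.card ↥(stabilizer G a ⊓ stabilizer G b ⊓ stabilizer G d) = y
    generalize Nat.card ↥X2 = N
    intro hmod hsum hkl h1 h1d h2 h2d hk1 h36
    subst h2
    have hk4 : k ≤ 4 := by omega
    have hx24 := Nat.le_of_dvd (by norm_num) h1
    have hy24 := Nat.le_of_dvd (by norm_num) h1d
    obtain rfl : l = 9 - k := by omega
    interval_cases k <;> interval_cases x <;> omega

/-- Degree eleven. -/
theorem degree_eleven (hα : Fintype.card α = 11) (G : Subgroup (Equiv.Perm α))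
    [IsPretransitive G α] (hG : ¬ Group.IsSolvable G) (hA : ¬ alternatingGroup α ≤ G) :
    (IsMultiplyPretransitive G α 4 ∧ ∀ x : Fin 4 ↪ α, stabilizer G x = ⊥) ∨
      Nonempty (G ≃* Matrix.ProjectiveSpecialLinearGroup (Fin 2) (ZMod 11)) := by
  classical
  haveI : Fact (Nat.Prime 11) := ⟨by norm_num⟩
  haveI : Nonempty α := Fintype.card_pos_iff.mp (by omega)
  set M := G ⊓ alternatingGroup α with hMdef
  have hMG : M ≤ G := inf_le_left
  let sg : G →* ℤˣ := Equiv.Perm.sign.comp G.subtype
  have hMn : M.subgroupOf G = sg.ker := by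
    ext g
    simp [M, sg, Subgroup.mem_subgroupOf]
  have hMnorm : (M.subgroupOf G).Normal := hMn ▸ sg.normal_ker
  have hMns : ¬ Group.IsSolvable M := by
    intro hs
    apply hG
    haveI : Group.IsSolvable sg.ker := by
      haveI : Group.IsSolvable (M.subgroupOf G) :=
        Group.isSolvable_of_surjective (f := (Subgroup.subgroupOfEquivOfLe hMG).symm.toMonoidHom)
          (Subgroup.subgroupOfEquivOfLe hMG).symm.surjective
      exact hMn ▸ this
    exact Group.isSolvable_of_ker_le_range sg.ker.subtype sg (by simp)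
  haveI htM : IsPretransitive M α := isPretransitive_of_normal_subgroupOf hα G M hMG hMnorm
    (fun e => hMns (by rw [e]; infer_instance))
  have hMA : ¬ alternatingGroup α ≤ M := fun h => hA (h.trans hMG)
  obtain ⟨PM⟩ : Nonempty (Sylow 11 M) := inferInstance
  obtain ⟨d, hd, -, hd10, -, hd1, -⟩ := sylow_data hα M PM
  -- no reversal in the even part
  have hodd : ¬ Even (Nat.card (Subgroup.normalizer ((PM : Subgroup M) : Set M))) := by
    intro hev
    obtain ⟨e, c, -, -, -, t, ht, b, htb⟩ := exists_reversal hα M PM (by norm_num) hev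
    have h1 : Equiv.Perm.sign t = 1 := Equiv.Perm.mem_alternatingGroup.mp ht.2
    have h2 : Equiv.Perm.sign t = Equiv.Perm.sign (Equiv.subLeft b) := by
      rw [← Equiv.Perm.sign_symm_trans_trans t e.symm]
      congr 1
      refine Equiv.ext fun j => ?_
      exact htb j
    rw [h1, sign_subLeft_eleven] at h2
    exact absurd h2 (by decide)
  have hd5 : d = 5 := by
    have hne : d ≠ 1 := fun e => hMns (by
      have hc := hd1 e
      haveI : IsCyclic M := isCyclic_of_prime_card hc
      exact Group.isSolvable_of_comm fun x y => mul_comm' x y)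
    rw [hd, Nat.not_even_iff_odd] at hodd
    have hdo : d % 2 = 1 := Nat.odd_iff.mp (Nat.odd_mul.mp hodd).2
    have hle := Nat.le_of_dvd (by norm_num) hd10
    interval_cases d <;> simp_all (config := { decide := true })
  have hH : Half 11 M := Half.of_sylow hα hMns PM (by rw [hd, hd5])
  -- the odd part is empty
  have key : IsMultiplyPretransitive G α 3 → M = G ∨ Nat.card G = 2 * Nat.card M := by
    intro _
    have h1 := Subgroup.card_mul_index sg.ker
    have h2 : sg.ker.index ∣ 2 := by
      rw [Subgroup.index_ker]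
      exact (Subgroup.card_subgroup_dvd_card _).trans (dvd_of_eq (by simp))
    have h3 : Nat.card sg.ker = Nat.card M := by
      rw [← hMn]; exact Nat.card_congr (Subgroup.subgroupOfEquivOfLe hMG).toEquiv
    rcases (Nat.dvd_prime Nat.prime_two).mp h2 with e | e
    · exact Or.inl (le_antisymm hMG fun g hg => by
        have := Subgroup.index_eq_one.mp e
        exact ⟨hg, (Equiv.Perm.mem_alternatingGroup).mpr
          (show sg ⟨g, hg⟩ = 1 from MonoidHom.mem_ker.mp (this ▸ Subgroup.mem_top _))⟩)
    · rw [e, h3] at h1; exact Or.inr (by omega)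
  by_cases hMG' : M = G
  · rw [hMG'] at hH hMA
    rcases even_case hH hA with h4 | ⟨h660, -⟩
    · exact Or.inl h4
    · right
      -- simplicity
      haveI : IsSimpleGroup G := by
        haveI : Nontrivial G := by
          rw [← Finite.one_lt_card_iff_nontrivial, h660]; norm_num
        refine ⟨fun K hK => ?_⟩
        by_cases hKb : K = ⊥
        · exact Or.inl hKb
        right
        let K' := K.map G.subtype
        have hK'G : K' ≤ G := Subgroup.map_subtype_le _
        have hK'n : (K'.subgroupOf G).Normal := by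
          rw [show K'.subgroupOf G = K from
            Subgroup.comap_map_eq_self_of_injective G.subtype_injective K]
          exact hK
        haveI : IsPretransitive K' α := isPretransitive_of_normal_subgroupOf hα G K' hK'G hK'n
          (fun h => hKb ((Subgroup.map_eq_bot_iff_of_injective _ G.subtype_injective).mp h))
        obtain ⟨PK⟩ : Nonempty (Sylow 11 K') := inferInstance
        obtain ⟨PG⟩ : Nonempty (Sylow 11 G) := inferInstance
        obtain ⟨dG, hdG, hGc, -⟩ := sylow_data hα G PG
        obtain ⟨dK, -, hKc, hdK, -, hdK1, -⟩ := sylow_data hα K' PK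
        rw [pSubgroups_normal_eq hα G K' hK'G hK'n] at hKc
        have hdG5 : dG = 5 := by have := hH.norm PG; rw [hdG] at this; omega
        rw [hdG5, h660] at hGc
        have hn12 : (pSubgroups 11 G).ncard = 12 := by omega
        rw [hn12] at hKc
        have hcardK : Nat.card K = Nat.card K' :=
          (Subgroup.card_map_of_injective G.subtype_injective).symm
        have hdiv := Subgroup.card_subgroup_dvd_card K
        rw [h660, hcardK, hKc] at hdiv
        have hdKne : dK ≠ 1 := fun e => by
          have := hdK1 e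
          rw [hKc, e] at this
          norm_num at this
        refine Subgroup.eq_top_of_card_eq _ ?_
        rw [hcardK, hKc, h660]
        have hle := Nat.le_of_dvd (by norm_num) hdK
        interval_cases dK <;> simp_all (config := { decide := true })
      exact H65.psl_two_eleven_of_card h660 (ZMod.card 11)
  exfalso
  -- an odd permutation makes the Sylow normaliser even
  obtain ⟨s, hsG, hsM⟩ := SetLike.exists_of_lt (lt_of_le_of_ne hMG hMG')
  have hsodd : Equiv.Perm.sign s ≠ 1 := fun h => hsM ⟨hsG, Equiv.Perm.mem_alternatingGroup.mpr h⟩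
  obtain ⟨PG⟩ : Nonempty (Sylow 11 G) := inferInstance
  have h3 : IsMultiplyPretransitive G α 3 := three_pretransitive_of_even_normalizer hα G hG PG
    (even_normalizer_of_odd_perm (by norm_num) G PG hsG hsodd)
  have hG2 : Nat.card G = 2 * Nat.card M := (key h3).resolve_left hMG'
  have h990 : 990 ∣ Nat.card G := by
    have h1 := descFactorial_dvd_card (G := G) (α := α) h3 (by omega)
    rw [hα] at h1
    exact h1
  rcases even_case hH hMA with ⟨h4, hsharp⟩ | ⟨h660, -⟩
  swap
  · rw [hG2, h660] at h990; norm_num at h990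
  -- the stabiliser of four points in `G` has order two
  have h4G : IsMultiplyPretransitive G α 4 := ⟨fun u v => by
    obtain ⟨g, hg⟩ := h4.exists_smul_eq u v
    exact ⟨⟨g, hMG g.2⟩, hg⟩⟩
  obtain ⟨u⟩ : Nonempty (Fin 4 ↪ α) := Function.Embedding.nonempty_of_card_le (by
    rw [hα, Fintype.card_fin]; norm_num)
  have hst : ∀ v : Fin 4 ↪ α, Nat.card (stabilizer G v) = 2 := by
    intro v
    have e1 := Subgroup.card_mul_index (stabilizer G v)
    have e2 := Subgroup.card_mul_index (stabilizer M v)
    rw [@index_stabilizer_of_transitive G _ _ _ v ⟨h4G.exists_smul_eq⟩] at e1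
    rw [@index_stabilizer_of_transitive M _ _ _ v ⟨h4.exists_smul_eq⟩, hsharp, Subgroup.card_bot, one_mul] at e2
    rw [hG2, ← e2] at e1
    exact Nat.eq_of_mul_eq_mul_right (by rw [Nat.card_eq_fintype_card]; exact Fintype.card_pos_iff.mpr ⟨v⟩) e1
  obtain ⟨t, ht⟩ : ∃ t : stabilizer G u, t ≠ 1 := by
    haveI : Nontrivial (stabilizer G u) := Finite.one_lt_card_iff_nontrivial.mp (by rw [hst u]; norm_num)
    exact exists_ne 1
  have htv : ∀ v : Fin 4 ↪ α, (∀ i, ((t : G) : Equiv.Perm α) (v i) = v i) →
      ∀ k : stabilizer G v, k ≠ 1 → (k : G) = t := by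
    intro v hv k hk
    obtain ⟨w, -, huniq⟩ : ∃! w : stabilizer G v, w ≠ 1 := by
      obtain ⟨x, y, hxy, huniv⟩ := Nat.card_eq_two_iff.mp (hst v)
      have key : ∀ z : stabilizer G v, z = x ∨ z = y := fun z => by
        have : z ∈ ({x, y} : Set (stabilizer G v)) := huniv ▸ Set.mem_univ z
        simpa using this
      rcases key 1 with e | e
      · exact ⟨y, fun h => hxy (e.symm.trans h.symm),
          fun z hz => (key z).resolve_left fun h => hz (h.trans e.symm)⟩
      · exact ⟨x, fun h => hxy (h.trans e),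
          fun z hz => (key z).resolve_right fun h => hz (h.trans e.symm)⟩
    have h1 := huniq k hk
    have h2 := huniq ⟨(t : G), Function.Embedding.ext hv⟩
      (fun e => ht (Subtype.ext (congrArg Subtype.val e :)))
    exact congrArg Subtype.val (h1.trans h2.symm)
  have ht2 : orderOf ((t : G) : Equiv.Perm α) = 2 := by
    rw [Subgroup.orderOf_coe, Subgroup.orderOf_coe]
    refine orderOf_eq_prime ?_ ht
    have := pow_card_eq_one' (G := stabilizer G u) (x := t)
    rwa [hst u] at this
  have htM : Equiv.Perm.sign ((t : G) : Equiv.Perm α) ≠ 1 := by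
    intro h
    apply ht
    have h1 : (⟨_, (t : G).2, Equiv.Perm.mem_alternatingGroup.mpr h⟩ : M) ∈ stabilizer M u :=
      Function.Embedding.ext fun i => DFunLike.congr_fun t.2 i
    rw [hsharp u, Subgroup.mem_bot] at h1
    exact Subtype.ext (Subtype.ext (congrArg Subtype.val h1 :))
  set B : Finset α := ((t : G) : Equiv.Perm α).supportᶜ with hB
  have hfix : ∀ {x}, x ∈ B ↔ ((t : G) : Equiv.Perm α) x = x := fun {x} => by
    rw [hB, Finset.mem_compl, Equiv.Perm.notMem_support]
  have hu : ∀ i, u i ∈ B := fun i => hfix.mpr (DFunLike.congr_fun t.2 i)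
  have h2G : IsMultiplyPretransitive G α 2 := by
    haveI := h3
    exact MulAction.isMultiplyPretransitive_of_le (n := 3) (by norm_num)
      (by rw [Nat.card_eq_fintype_card, hα]; norm_num)
  have hcG := clean_of_not_alternating hα h2G hA
  have hB5 : B.card = 5 := by
    obtain ⟨n, hn⟩ := Equiv.Perm.cycleType_prime_order (σ := ((t : G) : Equiv.Perm α))
      (by rw [ht2]; norm_num)
    have hsum : ((t : G) : Equiv.Perm α).support.card = (n + 1) * 2 := by
      rw [← Equiv.Perm.sum_cycleType, hn, ht2, Multiset.sum_replicate, smul_eq_mul]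
    have h5 := hcG.four _ (t : G).2 (fun e => by rw [e, orderOf_one] at ht2; omega)
    have h4' : 4 ≤ B.card := by
      rw [← Fintype.card_fin 4, ← Finset.card_univ]
      exact Finset.card_le_card_of_injOn u (fun i _ => hu i) u.injective.injOn
    rw [Equiv.Perm.sign_of_cycleType, hn, ht2, Multiset.sum_replicate, Multiset.card_replicate,
      smul_eq_mul] at htM
    rw [hB, Finset.card_compl, hα, hsum] at h4' ⊢
    have : n = 2 := by omega
    subst this
    norm_num
  -- a five cycle on `B` commuting with `t`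
  obtain ⟨b₄, hb₄, hb₄'⟩ := Finset.exists_mem_notMem_of_card_lt_card
    (s := Finset.univ.map u) (t := B) (by rw [hB5, Finset.card_map, Finset.card_univ, Fintype.card_fin]; norm_num)
  simp only [Finset.mem_map, Finset.mem_univ, true_and, not_exists] at hb₄'
  let v : Fin 4 ↪ α := ⟨![u 1, u 2, u 3, b₄], by
    intro i j; fin_cases i <;> fin_cases j <;>
      simp [u.injective.eq_iff, hb₄' 1, hb₄' 2, hb₄' 3, Ne.symm (hb₄' 1), Ne.symm (hb₄' 2),
        Ne.symm (hb₄' 3)]⟩
  obtain ⟨g, hg⟩ := h4G.exists_smul_eq u v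
  have hgu : ∀ i, g • u i = v i := fun i => DFunLike.congr_fun hg i
  have hgt : g * (t : G) = (t : G) * g := by
    have hmem : g * (t : G) * g⁻¹ ∈ stabilizer G v := by
      rw [mem_stabilizer_iff]
      refine Function.Embedding.ext fun i => ?_
      change (g * (t : G) * g⁻¹) • v i = v i
      rw [← hgu, mul_smul, mul_smul, inv_smul_smul,
        show (t : G) • u i = u i from DFunLike.congr_fun t.2 i]
    have hne : (⟨_, hmem⟩ : stabilizer G v) ≠ 1 := fun e => ht (Subtype.ext
      (conj_eq_one_iff.mp (congrArg Subtype.val e :)))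
    have hv : ∀ i, ((t : G) : Equiv.Perm α) (v i) = v i := by
      intro i
      fin_cases i
      · exact hfix.mp (hu 1)
      · exact hfix.mp (hu 2)
      · exact hfix.mp (hu 3)
      · exact hfix.mp hb₄
    exact (mul_inv_eq_iff_eq_mul.mp (htv v hv ⟨_, hmem⟩ hne))
  have hgB : ∀ x, x ∈ B → (g : Equiv.Perm α) x ∈ B := by
    intro x hx
    rw [hfix] at hx ⊢
    rw [← Equiv.Perm.mul_apply, ← Subgroup.coe_mul, ← hgt, Subgroup.coe_mul, Equiv.Perm.mul_apply, hx]
  have hall : ({u 0, u 1, u 2, u 3, b₄} : Finset α) = B := by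
    refine Finset.eq_of_subset_of_card_le ?_ ?_
    · intro x hx
      simp only [Finset.mem_insert, Finset.mem_singleton] at hx
      rcases hx with rfl | rfl | rfl | rfl | rfl <;> first | exact hu _ | exact hb₄
    · rw [hB5]
      simp [Finset.card_insert_of_notMem, u.injective.eq_iff, hb₄' 0, hb₄' 1, hb₄' 2, hb₄' 3]
  have g0 : (g : Equiv.Perm α) (u 0) = u 1 := hgu 0
  have g1 : (g : Equiv.Perm α) (u 1) = u 2 := hgu 1
  have g2 : (g : Equiv.Perm α) (u 2) = u 3 := hgu 2
  have g3 : (g : Equiv.Perm α) (u 3) = b₄ := hgu 3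
  have g4 : (g : Equiv.Perm α) b₄ = u 0 := by
    have h' := hgB b₄ hb₄
    rw [← hall] at h'
    simp only [Finset.mem_insert, Finset.mem_singleton] at h'
    rcases h' with e | e | e | e | e
    · exact e
    all_goals exfalso
    · exact hb₄' 0 ((g : Equiv.Perm α).injective (e.trans g0.symm)).symm
    · exact hb₄' 1 ((g : Equiv.Perm α).injective (e.trans g1.symm)).symm
    · exact hb₄' 2 ((g : Equiv.Perm α).injective (e.trans g2.symm)).symm
    · exact hb₄' 3 ((g : Equiv.Perm α).injective (e.trans g3.symm)).symm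
  have hper : ∀ k : ℕ, ((g : Equiv.Perm α) ^ k) (u 0) = u 0 → 5 ∣ k := by
    intro k hk
    have h5 : ((g : Equiv.Perm α) ^ 5) (u 0) = u 0 := by
      simp only [pow_succ', pow_zero, Equiv.Perm.mul_apply, Equiv.Perm.one_apply, g0, g1, g2, g3, g4]
    rw [← Nat.mod_add_div k 5, pow_add, pow_mul, Equiv.Perm.mul_apply,
      Equiv.Perm.pow_apply_eq_self_of_apply_eq_self h5] at hk
    have hlt := Nat.mod_lt k (show 5 > 0 by norm_num)
    apply Nat.dvd_of_mod_eq_zero
    revert hk
    interval_cases k % 5 <;> intro hk <;>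
      simp only [pow_succ', pow_zero, Equiv.Perm.mul_apply, Equiv.Perm.one_apply, g0, g1, g2, g3] at hk <;>
      first
        | rfl
        | exact absurd hk (u.injective.ne (by decide))
        | exact absurd hk.symm (hb₄' 0)
  set o := orderOf (g : Equiv.Perm α) with ho
  have h5o : 5 ∣ o := hper o (by rw [ho, pow_orderOf_eq_one]; rfl)
  have h25 : ¬ 25 ∣ o := by
    intro h25
    have h1 : o ∣ Nat.card G := by rw [ho, Subgroup.orderOf_coe]; exact orderOf_dvd_natCard g
    have h2 : Nat.card G = 15840 := by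
      have e2 := Subgroup.card_mul_index (stabilizer M u)
      rw [@index_stabilizer_of_transitive M _ _ _ u ⟨h4.exists_smul_eq⟩, hsharp, Subgroup.card_bot, one_mul,
        Nat.card_eq_fintype_card, Fintype.card_embedding_eq, Fintype.card_fin, hα] at e2
      rw [hG2, ← e2]
      rfl
    have h3 : 25 ∣ 15840 := h2 ▸ h25.trans h1
    norm_num at h3
  set x : G := g ^ (o / 5) with hx
  have hxo : orderOf (x : Equiv.Perm α) = 5 := by
    rw [hx, SubmonoidClass.coe_pow, orderOf_pow_orderOf_div (orderOf_pos _).ne' h5o]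
  have hxu : (x : Equiv.Perm α) (u 0) ≠ u 0 := by
    rw [hx, SubmonoidClass.coe_pow]
    intro h
    obtain ⟨m, hm⟩ := hper _ h
    exact h25 ⟨m, by rw [show (25 : ℕ) = 5 * 5 by norm_num, mul_assoc, ← hm, Nat.mul_div_cancel' h5o]⟩
  have hxt : ∀ y, ((t : G) : Equiv.Perm α) ((x : Equiv.Perm α) y) =
      (x : Equiv.Perm α) (((t : G) : Equiv.Perm α) y) := by
    intro y
    have hc' : Commute g (t : G) := hgt
    have := congrArg (fun z : G => (z : Equiv.Perm α) y) (hc'.pow_left (o / 5)).eq
    simp only [Subgroup.coe_mul, Equiv.Perm.mul_apply] at this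
    rw [hx]; exact this.symm
  obtain ⟨hd, hpos⟩ := support_dvd (by norm_num : (5 : ℕ).Prime) hxo
  have hle : (x : Equiv.Perm α).support.card ≤ 11 := hα ▸ Finset.card_le_univ _
  have hne5 : (x : Equiv.Perm α).support.card ≠ 5 :=
    hcG.prime_support _ x.2 5 (by norm_num) le_rfl hxo (by norm_num)
  have h10 : (x : Equiv.Perm α).support.card = 10 := by omega
  obtain ⟨z, hz⟩ : ∃ z, (x : Equiv.Perm α).supportᶜ = {z} :=
    Finset.card_eq_one.mp (by rw [Finset.card_compl, hα, h10])
  have hzfix : (x : Equiv.Perm α) z = z := Equiv.Perm.notMem_support.mp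
    (Finset.mem_compl.mp (hz ▸ Finset.mem_singleton_self z))
  have htz : ((t : G) : Equiv.Perm α) z = z := by
    have h1 : (x : Equiv.Perm α) (((t : G) : Equiv.Perm α) z) = ((t : G) : Equiv.Perm α) z := by
      rw [← hxt, hzfix]
    have : ((t : G) : Equiv.Perm α) z ∈ (x : Equiv.Perm α).supportᶜ :=
      Finset.mem_compl.mpr (Equiv.Perm.notMem_support.mpr h1)
    rwa [hz, Finset.mem_singleton] at this
  -- `z` is in `B`, so `x` fixes a point of its five cycle
  have hzB : z ∈ B := hfix.mpr htz
  rw [← hall] at hzB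
  apply hxu
  obtain ⟨k, hk⟩ : ∃ k : ℕ, ((g : Equiv.Perm α) ^ k) (u 0) = z := by
    simp only [Finset.mem_insert, Finset.mem_singleton] at hzB
    rcases hzB with rfl | rfl | rfl | rfl | rfl
    · exact ⟨0, rfl⟩
    · exact ⟨1, by simp [g0]⟩
    · exact ⟨2, by simp [pow_succ', g0, g1]⟩
    · exact ⟨3, by simp [pow_succ', g0, g1, g2]⟩
    · exact ⟨4, by simp [pow_succ', g0, g1, g2, g3]⟩
  rw [← hk, hx, SubmonoidClass.coe_pow, ← Equiv.Perm.mul_apply, ← pow_add, add_comm, pow_add,
    Equiv.Perm.mul_apply] at hzfix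
  rw [hx, SubmonoidClass.coe_pow]
  exact ((g : Equiv.Perm α) ^ k).injective hzfix

end H16.PD
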